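import Cfsg.Agent.Depth.G.Five
import Cfsg.Agent.S5766

/-!
# Depth of alternating groups (S5768): `S_l > AGL₁(l) > … > 1` for a safe prime `l` (helper30)
-/

set_option autoImplicit false
set_option maxHeartbeats 200000

namespace Cfsg.Agent.Depth.G

open Subgroup

/-- **the affine chain** -/
theorem gAff : GAff := by
  rintro l ⟨hl, hq, h29⟩
  have : Fact l.Prime := ⟨hl⟩
  obtain ⟨M, hM, hm⟩ := (S5766.result l 1 le_rfl (by rw [pow_one]; omega)).1 (by omega)
  have hV : Nat.card (Fin 1 → ZMod l) = l := by rw [Nat.card_fun, Nat.card_zmod, Nat.card_fin, pow_one]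
  have hG : Nat.card ((Fin 1 → ZMod l) ≃ₗ[ZMod l] (Fin 1 → ZMod l)) = l - 1 := by
    rw [← Nat.card_congr (LinearMap.GeneralLinearGroup.generalLinearEquiv (ZMod l) (Fin 1 → ZMod l)).toEquiv,
      ← Nat.card_congr (Matrix.GeneralLinearGroup.toLin (n := Fin 1) (R := ZMod l)).toEquiv, Matrix.card_GL_field]
    simp
  have hc : Nat.card M = (l - 1) * l := by
    let f : ((Fin 1 → ZMod l) ≃ₗ[ZMod l] (Fin 1 → ZMod l)) × (Fin 1 → ZMod l) → M := fun x =>
      ⟨x.1.toEquiv.trans (Equiv.addRight x.2), (hm _).2 ⟨x.1, x.2, fun _ => rfl⟩⟩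
    have hf : Function.Bijective f := by
      constructor
      · rintro ⟨A, b⟩ ⟨A', b'⟩ e
        have h1 : ∀ v, A v + b = A' v + b' := fun v => congrArg (fun σ : M => σ.1 v) e
        have h2 : b = b' := by simpa using h1 0
        subst h2
        exact Prod.ext (LinearEquiv.ext fun v => add_right_cancel (h1 v)) rfl
      · rintro ⟨σ, hσ⟩
        obtain ⟨A, b, h⟩ := (hm σ).1 hσ
        exact ⟨(A, b), Subtype.ext (Equiv.ext fun v => (h v).symm)⟩
    rw [← Nat.card_congr (Equiv.ofBijective f hf), Nat.card_prod, hG, hV]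
  have h2 : l - 1 = 2 * (l / 2) := by
    obtain ⟨k, hk⟩ := hl.odd_of_ne_two (by omega)
    omega
  have h3 : Red M PUnit 3 := by
    refine red_factors 3 _ ?_
    rw [hc, h2, ArithmeticFunction.cardFactors_mul (by omega) (by omega),
      ArithmeticFunction.cardFactors_mul (by omega) (by omega), ArithmeticFunction.cardFactors_apply_prime Nat.prime_two,
      ArithmeticFunction.cardFactors_apply_prime hq, ArithmeticFunction.cardFactors_apply_prime hl]
  obtain ⟨e⟩ : Nonempty ((Fin 1 → ZMod l) ≃ Fin l) := ⟨Finite.equivFinOfCardEq hV⟩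
  exact ((Red.of_coatom hM (MulEquiv.refl M)).trans h3).congr e.permCongrHom (MulEquiv.refl _)

end Cfsg.Agent.Depth.G
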