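import Cfsg.Agent.Depth.G.Calc
import Cfsg.Agent.S3616
import Cfsg.Agent.S3387
import Cfsg.Agent.S5939
import Cfsg.Agent.TwoFusion.SLTwoFacts

/-!
# Depth of alternating groups (S5768): `A_{p+1} > L₂(p) > A₅` (helper30)
-/

set_option autoImplicit false
set_option maxHeartbeats 200000

namespace Cfsg.Agent.Depth.G

open Subgroup Equiv Equiv.Perm
open scoped LinearAlgebra.Projectivization

/-- **the leaves** -/
theorem gLeaf : GLeaf := by
  classical
  rintro p ⟨hp, h19, h10⟩
  have : Fact p.Prime := ⟨hp⟩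
  let Ω := ℙ (ZMod p) (Fin 2 → ZMod p)
  let _ : Fintype Ω := Fintype.ofFinite _
  have hΩ : Nat.card Ω = p + 1 := by
    rw [Projectivization.card_of_finrank_two (ZMod p) (Fin 2 → ZMod p) (by simp), Nat.card_zmod]
  have hΩ' : Fintype.card Ω = p + 1 := by rw [← Nat.card_eq_fintype_card, hΩ]
  have : Nontrivial Ω := Finite.one_lt_card_iff_nontrivial.1 (by omega)
  have hev : ∀ g : Matrix.ProjectiveSpecialLinearGroup (Fin 2) (ZMod p),
      Projectivization.PSLAction.toPermHom g ∈ alternatingGroup Ω := by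
    intro g
    obtain ⟨g, rfl⟩ := QuotientGroup.mk_surjective g
    have h1 := Abelianization.commutator_subset_ker
      (sign.comp (MulAction.toPermHom (Matrix.SpecialLinearGroup (Fin 2) (ZMod p)) Ω))
    rw [TwoFusion.SLTwoFacts.commutator_eq_top (by rw [ZMod.card]; omega)] at h1
    exact mem_alternatingGroup.2 (h1 (mem_top g))
  let ψ : Matrix.ProjectiveSpecialLinearGroup (Fin 2) (ZMod p) →* alternatingGroup Ω :=
    Projectivization.PSLAction.toPermHom.codRestrict _ hev
  have hψ : Function.Injective ψ := fun x y e =>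
    Matrix.ProjectiveSpecialLinearGroup.toPermHom_injective (congrArg Subtype.val e)
  have hc : IsCoatom ψ.range := by
    refine ⟨fun e => ?_, fun X hX => ?_⟩
    · have h1 := ClassicalGeometry.PSL2Basic.card_PSL2_odd (F := ZMod p) (by
        rw [ZMod.card]; exact hp.odd_of_ne_two (by omega))
      rw [Nat.card_congr (MonoidHom.ofInjective hψ).toEquiv, e, card_top, mul_comm, two_mul_nat_card_alternatingGroup,
        Nat.card_perm, hΩ, ZMod.card] at h1
      obtain ⟨m, rfl⟩ : ∃ m, p = m + 4 := ⟨p - 4, by omega⟩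
      have h2 : (m + 4) ^ 2 - 1 = (m + 5) * (m + 3) := by
        apply Nat.sub_eq_of_eq_add
        ring
      have h3 : 2 ≤ (m + 2).factorial := (Nat.le_add_left 2 m).trans (Nat.self_le_factorial _)
      rw [h2, Nat.factorial_succ, Nat.factorial_succ, Nat.factorial_succ] at h1
      have h4 : (m + 5) * (m + 4) * (m + 3) * (m + 2).factorial = (m + 5) * (m + 4) * (m + 3) * 1 := by
        linarith
      have h5 := Nat.eq_of_mul_eq_mul_left (by positivity) h4
      omega
    · have h4 := S3616.result (X := X) (Ω := Ω) p hp (by omega) hΩ' (fun x => mem_alternatingGroup.1 x.1.2)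
        (ψ.range.subgroupOf X) ⟨(subgroupOfEquivOfLe hX.le).trans (MonoidHom.ofInjective hψ).symm⟩ ?_
        (fun e => hX.not_ge (subgroupOf_eq_top.1 e))
      · rcases S3387.result (G := X) (Ω := Ω) (by omega) h4 with h | h | h | h | h | h
        · exfalso
          obtain ⟨a, b, hab⟩ := exists_pair_ne Ω
          obtain ⟨x, hx⟩ : swap a b ∈ (MulAction.toPermHom X Ω).range := h ▸ mem_top _
          have h5 : sign (swap a b) = 1 := hx ▸ mem_alternatingGroup.1 x.1.2
          rw [sign_swap hab] at h5
          exact absurd h5 (by decide)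
        · rw [eq_top_iff]
          intro g _
          obtain ⟨x, hx⟩ : g.1 ∈ (MulAction.toPermHom X Ω).range := by rw [h]; exact g.2
          have h5 : x.1 = g := Subtype.ext hx
          exact h5 ▸ x.2
        all_goals
          have h5 := h.1
          omega
      · rw [MulAction.is_two_pretransitive_iff]
        intro a b c d h1 h2
        obtain ⟨g, k1, k2⟩ := MulAction.is_two_pretransitive_iff.1
          (inferInstance : MulAction.IsMultiplyPretransitive (Matrix.SpecialLinearGroup (Fin 2) (ZMod p)) Ω 2) h1 h2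
        exact ⟨⟨⟨ψ g, hX.le ⟨_, rfl⟩⟩, ⟨_, rfl⟩⟩, k1, k2⟩
  obtain ⟨H, hH, ⟨e⟩⟩ := S5939.result (F := ZMod p) p (Or.inl ⟨ZMod.card p, h10⟩)
  exact ((Red.of_range ψ hψ hc).trans (Red.of_coatom hH e)).congr (Finite.equivFinOfCardEq hΩ).altCongrHom
    (MulEquiv.refl _)

end Cfsg.Agent.Depth.G
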