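import Cfsg.Agent.Depth.G.Calc
import Cfsg.Agent.S5909

/-!
# Depth of alternating groups (S5768): the wreath step (helper30)
-/

set_option autoImplicit false
set_option maxHeartbeats 200000
set_option linter.unusedSectionVars false

namespace Cfsg.Agent.Depth.G

open Subgroup Equiv Equiv.Perm

section abs

variable {I : Type*}

/-- invariance under the permutations of the coordinates -/
def WInv {T : Type*} [Group T] (K : Subgroup (I → T)) : Prop := ∀ (s : Perm I), ∀ g ∈ K, (fun i => g (s i)) ∈ K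

variable [Fintype I] [DecidableEq I]

/-- the even weight module is irreducible -/
theorem even_irr (hI : Odd (Fintype.card I)) {M : Subgroup (I → ℤˣ)} (hM : WInv M) {v : I → ℤˣ} (hv : v ∈ M) (h1 : v ≠ 1)
    (h2 : ∏ i, v i = 1) {w : I → ℤˣ} (hw : ∏ i, w i = 1) : w ∈ M := by
  obtain ⟨i, hi⟩ : ∃ i, v i = -1 := by
    by_contra h
    exact h1 (funext fun i => (Int.units_eq_one_or (v i)).resolve_right fun e => h ⟨i, e⟩)
  obtain ⟨j, hj⟩ : ∃ j, v j = 1 := by
    by_contra h
    have h3 : ∀ j, v j = -1 := fun j => (Int.units_eq_one_or (v j)).resolve_left fun e => h ⟨j, e⟩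
    simp only [h3, Finset.prod_const, Finset.card_univ, hI.neg_one_pow] at h2
    exact absurd h2 (by decide)
  have hij : i ≠ j := by
    rintro rfl
    rw [hi] at hj
    exact absurd hj (by decide)
  have key : ∀ k, (Pi.mulSingle k (-1) * Pi.mulSingle j (-1) : I → ℤˣ) ∈ M := by
    intro k
    by_cases hk : k = j
    · rw [hk, ← Pi.mulSingle_mul, neg_mul_neg, one_mul, Pi.mulSingle_one]
      exact one_mem _
    have h3 := hM (swap i k) _ (M.mul_mem hv (hM (swap i j) v hv))
    convert h3 using 1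
    funext m
    simp only [Pi.mul_apply]
    by_cases m1 : m = k
    · rw [m1, Pi.mulSingle_eq_same, Pi.mulSingle_eq_of_ne hk, swap_apply_right, swap_apply_left, hi, hj]
    by_cases m2 : m = j
    · rw [m2, Pi.mulSingle_eq_same, Pi.mulSingle_eq_of_ne (Ne.symm hk), swap_apply_of_ne_of_ne hij.symm (Ne.symm hk),
        swap_apply_right, hi, hj]
    · rw [Pi.mulSingle_eq_of_ne m1, Pi.mulSingle_eq_of_ne m2, swap_apply_of_ne_of_ne (x := swap i k m), one_mul,
        Int.units_mul_self]
      · intro e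
        exact m1 (by rw [← swap_apply_self i k m, e, swap_apply_left])
      · intro e
        exact m2 (by rw [← swap_apply_self i k m, e, swap_apply_of_ne_of_ne hij.symm (Ne.symm hk)])
  have e : w = ∏ k, (Pi.mulSingle k (w k) * Pi.mulSingle j (w k) : I → ℤˣ) := by
    rw [Finset.prod_mul_distrib, Finset.univ_prod_mulSingle]
    have h3 := map_prod (MonoidHom.mulSingle (fun _ : I => ℤˣ) j) w Finset.univ
    rw [hw, map_one] at h3
    exact ((congrArg (w * ·) h3.symm).trans (mul_one w)).symm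
  rw [e]
  refine prod_mem fun k _ => ?_
  rcases Int.units_eq_one_or (w k) with h | h <;> rw [h]
  · rw [Pi.mulSingle_one, Pi.mulSingle_one, one_mul]
    exact one_mem _
  · exact key k

/-- an invariant subgroup of `T ^ I` properly containing the diagonal is everything -/
theorem diag_max {T : Type*} [Group T] [IsSimpleGroup T] (hT : ∃ x y : T, x * y ≠ y * x) (hI : 3 ≤ Fintype.card I)
    {L : Subgroup (I → T)} (hL : WInv L) (hd : ∀ c : T, (fun _ => c) ∈ L) {g : I → T} (hg : g ∈ L) {i j : I}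
    (hij : g i ≠ g j) : L = ⊤ := by
  have hne : i ≠ j := fun e => hij (by rw [e])
  obtain ⟨k, -, hk⟩ := Finset.exists_mem_notMem_of_card_lt_card (s := {i, j}) (t := Finset.univ)
    (lt_of_le_of_lt Finset.card_le_two (by rw [Finset.card_univ]; omega))
  simp only [Finset.mem_insert, Finset.mem_singleton, not_or] at hk
  let P : Subgroup T := (L ⊓ Subgroup.pi {m | m ≠ i ∧ m ≠ j} (fun _ => ⊥)).map (Pi.evalMonoidHom (fun _ => T) i)
  have hP : P.Normal := ⟨by
    rintro _ ⟨h, ⟨h1, h2⟩, rfl⟩ d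
    refine ⟨(fun _ => d) * h * (fun _ => d)⁻¹, ⟨L.mul_mem (L.mul_mem (hd d) h1) (L.inv_mem (hd d)), fun m hm => ?_⟩, rfl⟩
    have h3 : h m = 1 := h2 m hm
    change d * h m * d⁻¹ = 1
    rw [h3, mul_one, mul_inv_cancel]⟩
  have hP' : P = ⊤ := by
    refine hP.eq_bot_or_eq_top.resolve_left fun e => hij ?_
    have h1 : g i * (g j)⁻¹ ∈ P := by
      refine ⟨g * (fun m => g (swap i j m))⁻¹, ⟨L.mul_mem hg (L.inv_mem (hL _ g hg)), fun m hm => ?_⟩, ?_⟩
      · change g m * (g (swap i j m))⁻¹ = 1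
        rw [swap_apply_of_ne_of_ne hm.1 hm.2, mul_inv_cancel]
      · change g i * (g (swap i j i))⁻¹ = _
        rw [swap_apply_left]
    rwa [e, mem_bot, mul_inv_eq_one] at h1
  have hN : (L.comap (MonoidHom.mulSingle (fun _ : I => T) i)).Normal := ⟨fun n hn d => by
    have h1 := L.mul_mem (L.mul_mem (hd d) hn) (L.inv_mem (hd d))
    rw [mem_comap]
    convert h1 using 1
    funext m
    change Pi.mulSingle (M := fun _ => T) i (d * n * d⁻¹) m = d * Pi.mulSingle (M := fun _ => T) i n m * d⁻¹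
    by_cases hm : m = i
    · rw [hm, Pi.mulSingle_eq_same, Pi.mulSingle_eq_same]
    · rw [Pi.mulSingle_eq_of_ne hm, Pi.mulSingle_eq_of_ne hm, mul_one, mul_inv_cancel]⟩
  have hN' : L.comap (MonoidHom.mulSingle (fun _ : I => T) i) = ⊤ := by
    refine hN.eq_bot_or_eq_top.resolve_left fun e => ?_
    obtain ⟨x, y, hxy⟩ := hT
    obtain ⟨u, ⟨u1, u2⟩, hu⟩ : x ∈ P := hP' ▸ mem_top x
    obtain ⟨v, ⟨v1, v2⟩, hv⟩ : y ∈ P := hP' ▸ mem_top y
    have v3 := hL (swap j k) v v1
    have h1 : x * y * x⁻¹ * y⁻¹ ∈ L.comap (MonoidHom.mulSingle (fun _ : I => T) i) := by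
      have h2 := L.mul_mem (L.mul_mem (L.mul_mem u1 v3) (L.inv_mem u1)) (L.inv_mem v3)
      rw [mem_comap]
      convert h2 using 1
      funext m
      change Pi.mulSingle (M := fun _ => T) i (x * y * x⁻¹ * y⁻¹) m =
        u m * v (swap j k m) * (u m)⁻¹ * (v (swap j k m))⁻¹
      by_cases hm : m = i
      · rw [hm, Pi.mulSingle_eq_same, swap_apply_of_ne_of_ne hne (Ne.symm hk.1), ← hu, ← hv]
        rfl
      rw [Pi.mulSingle_eq_of_ne hm]
      by_cases hm' : m = j
      · have h3 : v k = 1 := v2 k hk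
        rw [hm', swap_apply_left, h3]
        group
      · have h3 : u m = 1 := u2 m ⟨hm, hm'⟩
        rw [h3]
        group
    rw [e, mem_bot] at h1
    apply hxy
    calc x * y = x * y * x⁻¹ * y⁻¹ * (y * x) := by group
      _ = y * x := by rw [h1, one_mul]
  rw [eq_top_iff]
  intro x _
  refine pi_mem_of_mulSingle_mem x fun m => ?_
  have h1 : x m ∈ L.comap (MonoidHom.mulSingle (fun _ : I => T) i) := hN' ▸ mem_top _
  have h2 := hL (swap i m) _ h1
  convert h2 using 1
  funext n
  change Pi.mulSingle (M := fun _ => T) m (x m) n = Pi.mulSingle (M := fun _ => T) i (x m) (swap i m n)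
  by_cases hn : n = m
  · rw [hn, swap_apply_right, Pi.mulSingle_eq_same, Pi.mulSingle_eq_same]
  · rw [Pi.mulSingle_eq_of_ne hn, Pi.mulSingle_eq_of_ne]
    intro e
    exact hn (by rw [← swap_apply_self i m n, e, swap_apply_left])

end abs

section wr

variable {I A : Type}

/-- the base group -/
def wb : (I → Perm A) →* Perm (I × A) where
  toFun g := prodCongrRight g
  map_one' := rfl
  map_mul' _ _ := rfl

/-- the top group -/
def wt : Perm I →* Perm (I × A) where
  toFun s := prodCongrLeft fun _ => s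
  map_one' := rfl
  map_mul' _ _ := rfl

theorem wb_wt (g : I → Perm A) (s : Perm I) : wb g * wt s = wt s * wb (fun i => g (s i)) :=
  Equiv.ext fun ⟨_, _⟩ => rfl

/-- the wreath product with base `K` -/
def WW (K : Subgroup (I → Perm A)) (hK : WInv K) : Subgroup (Perm (I × A)) where
  carrier := {x | ∃ s, ∃ g ∈ K, x = wt s * wb g}
  one_mem' := ⟨1, 1, one_mem _, rfl⟩
  mul_mem' := by
    rintro _ _ ⟨s, g, hg, rfl⟩ ⟨s', g', hg', rfl⟩
    exact ⟨s * s', (fun i => g (s' i)) * g', K.mul_mem (hK s' g hg) hg', Equiv.ext fun ⟨_, _⟩ => rfl⟩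
  inv_mem' := by
    rintro _ ⟨s, g, hg, rfl⟩
    exact ⟨s⁻¹, _, hK s⁻¹ _ (K.inv_mem hg), by rw [mul_inv_rev, ← map_inv, ← map_inv, wb_wt]⟩

theorem comap_WW [Nonempty A] {K : Subgroup (I → Perm A)} (hK : WInv K) : (WW K hK).comap wb = K := by
  refine le_antisymm ?_ fun g hg => ⟨1, g, hg, rfl⟩
  rintro h ⟨s, g, hg, e⟩
  have h1 : h = g := funext fun i => Equiv.ext fun x => congrArg (fun y : Perm (I × A) => (y (i, x)).2) e
  exact h1 ▸ hg

theorem WW_covBy [Nonempty A] {K K' : Subgroup (I → Perm A)} (hK : WInv K) (hK' : WInv K') (h : K < K')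
    (hm : ∀ L, WInv L → K < L → L ≤ K' → K' ≤ L) : WW K hK ⋖ WW K' hK' := by
  have hle : WW K hK ≤ WW K' hK' := by
    rintro _ ⟨s, g, hg, rfl⟩
    exact ⟨s, g, h.le hg, rfl⟩
  refine ⟨lt_of_le_of_ne hle fun e => h.ne (by rw [← comap_WW hK, e, comap_WW hK']), fun X h1 h2 => ?_⟩
  have ht : ∀ s, wt s ∈ X := fun s => h1.le ⟨s, 1, one_mem _, rfl⟩
  have hL : WInv (X.comap wb) := by
    intro s g hg
    have h3 := X.mul_mem (X.inv_mem (ht s)) (X.mul_mem hg (ht s))
    rwa [wb_wt, inv_mul_cancel_left] at h3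
  have k1 : K ≤ X.comap wb := (comap_WW hK).ge.trans (comap_mono h1.le)
  have k2 : X.comap wb ≤ K' := (comap_mono h2.le).trans (comap_WW hK').le
  rcases k1.eq_or_lt with k | k
  · refine h1.not_ge fun x hx => ?_
    obtain ⟨s, g, -, rfl⟩ := h2.le hx
    exact ⟨s, g, k.ge ((mul_mem_cancel_left (ht s)).1 hx), rfl⟩
  · refine h2.not_ge ?_
    rintro _ ⟨s, g, hg, rfl⟩
    exact X.mul_mem (ht s) (hm _ hL k k2 hg)

theorem exists_form [Finite I] [Finite A] [Nonempty A] {x : Perm (I × A)}
    (hx : ∀ p q : I × A, p.1 = q.1 ↔ (x p).1 = (x q).1) : ∃ s g, x = wt s * wb g := by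
  obtain ⟨a⟩ := ‹Nonempty A›
  have h1 : Function.Bijective fun i => (x (i, a)).1 :=
    Finite.injective_iff_bijective.1 fun i j e => (hx (i, a) (j, a)).2 e
  have h2 : ∀ i, Function.Bijective fun b => (x (i, b)).2 := fun i =>
    Finite.injective_iff_bijective.1 fun b c e =>
      congrArg Prod.snd (x.injective (Prod.ext ((hx (i, b) (i, c)).1 rfl) e))
  exact ⟨Equiv.ofBijective _ h1, fun i => Equiv.ofBijective _ (h2 i), Equiv.ext fun p =>
    Prod.ext ((hx p (p.1, a)).1 rfl) rfl⟩

variable [Fintype I] [DecidableEq I] [Fintype A] [DecidableEq A]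

/-- the signs of the coordinates -/
def sg : (I → Perm A) →* (I → ℤˣ) where
  toFun g := fun i => sign (g i)
  map_one' := funext fun _ => map_one _
  map_mul' _ _ := funext fun _ => map_mul _ _ _

/-- the product of the signs is one -/
def K1 : Subgroup (I → Perm A) := (sign.comp wb).ker

theorem mem_K1 {g : I → Perm A} : g ∈ K1 ↔ ∏ i, sign (g i) = 1 := by
  rw [← sign_prodCongrRight]
  rfl

theorem inv_K1 : WInv (K1 : Subgroup (I → Perm A)) := fun s g hg => by
  rw [mem_K1] at hg ⊢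
  rw [← hg]
  exact Equiv.prod_comp s fun i => sign (g i)

theorem inv_K2 : WInv (sg : (I → Perm A) →* (I → ℤˣ)).ker := fun s _ hg => funext fun i => congrFun hg (s i)

/-- the even constants -/
def dg : alternatingGroup A →* (I → Perm A) where
  toFun c := fun _ => c
  map_one' := rfl
  map_mul' _ _ := rfl

theorem inv_K3 : WInv (dg : alternatingGroup A →* (I → Perm A)).range := by
  rintro s _ ⟨c, rfl⟩
  exact ⟨c, rfl⟩

theorem sign_wt (hA : Even (Fintype.card A)) (s : Perm I) : sign (wt s : Perm (I × A)) = 1 := by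
  change sign (prodCongrLeft fun _ : A => s) = 1
  rw [sign_prodCongrLeft, Finset.prod_const, Finset.card_univ]
  rcases Int.units_eq_one_or (sign s) with h | h <;> rw [h]
  · exact one_pow _
  · exact hA.neg_one_pow

theorem step2 [Nontrivial I] [Nontrivial A] (hI : Odd (Fintype.card I)) :
    WW (sg : (I → Perm A) →* (I → ℤˣ)).ker inv_K2 ⋖ WW K1 inv_K1 := by
  have hle : (sg : (I → Perm A) →* (I → ℤˣ)).ker ≤ K1 := fun g hg =>
    mem_K1.2 (Finset.prod_eq_one fun i _ => congrFun hg i)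
  obtain ⟨a, b, hab⟩ := exists_pair_ne A
  refine WW_covBy _ _ (lt_of_le_of_ne hle fun e => ?_) fun L hL h1 h2 g hg => ?_
  · obtain ⟨i, j, hij⟩ := exists_pair_ne I
    have h1 : (Pi.mulSingle i (swap a b) * Pi.mulSingle j (swap a b) : I → Perm A) ∈ K1 := by
      have h3 : ∀ k : I, sign.comp wb (Pi.mulSingle k (swap a b) : I → Perm A) = -1 := by
        intro k
        change sign (prodCongrRight _) = -1
        rw [sign_prodCongrRight, Finset.prod_eq_single k (fun m _ hm => by rw [Pi.mulSingle_eq_of_ne hm, map_one])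
          (fun h => absurd (Finset.mem_univ k) h), Pi.mulSingle_eq_same, sign_swap hab]
      rw [K1, MonoidHom.mem_ker, map_mul, h3, h3, neg_mul_neg, one_mul]
    rw [← e] at h1
    have h2 : sign ((Pi.mulSingle i (swap a b) : I → Perm A) i * (Pi.mulSingle j (swap a b) : I → Perm A) i) = 1 :=
      congrFun h1 i
    rw [Pi.mulSingle_eq_same, Pi.mulSingle_eq_of_ne hij, mul_one, sign_swap hab] at h2
    exact absurd h2 (by decide)
  · obtain ⟨v, hv, hv'⟩ := SetLike.exists_of_lt h1
    rw [← comap_map_eq_self (f := sg) h1.le]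
    refine even_irr hI (M := L.map sg) ?_ ⟨v, hv, rfl⟩ hv' (mem_K1.1 (h2 hv)) (mem_K1.1 hg)
    rintro s _ ⟨u, hu, rfl⟩
    exact ⟨_, hL s u hu, rfl⟩

theorem step3 (hI : 3 ≤ Fintype.card I) (hA : 5 ≤ Fintype.card A) :
    WW (dg : alternatingGroup A →* (I → Perm A)).range inv_K3 ⋖ WW (sg : (I → Perm A) →* (I → ℤˣ)).ker inv_K2 := by
  have : Nontrivial I := Fintype.one_lt_card_iff_nontrivial.1 (by omega)
  have : Nonempty A := Fintype.card_pos_iff.1 (by omega)
  have hs : IsSimpleGroup (alternatingGroup A) := alternatingGroup.isSimpleGroup (by rwa [Nat.card_eq_fintype_card])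
  have hT : ∃ x y : alternatingGroup A, x * y ≠ y * x := by
    by_contra h
    push Not at h
    have h1 := alternatingGroup.isMulCommutative_iff_card_le_three.1 (show IsMulCommutative (alternatingGroup A) from ⟨⟨h⟩⟩)
    rw [Nat.card_eq_fintype_card] at h1
    omega
  let ι : (I → alternatingGroup A) →* (I → Perm A) :=
    { toFun := fun g i => g i
      map_one' := rfl
      map_mul' := fun _ _ => rfl }
  have hι : ∀ g ∈ (sg : (I → Perm A) →* (I → ℤˣ)).ker, ∃ h, ι h = g := fun g hg =>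
    ⟨fun i => ⟨g i, mem_alternatingGroup.2 (congrFun hg i)⟩, rfl⟩
  obtain ⟨i⟩ : Nonempty I := inferInstance
  have hle : (dg : alternatingGroup A →* (I → Perm A)).range ≤ sg.ker := by
    rintro _ ⟨c, rfl⟩
    exact funext fun _ => mem_alternatingGroup.1 c.2
  refine WW_covBy _ _ (lt_of_le_of_ne hle fun e => ?_) fun L hL h1 h2 g hg => ?_
  · obtain ⟨j, hj⟩ := exists_ne i
    obtain ⟨c, hc⟩ := exists_ne (1 : alternatingGroup A)
    have h1 : ι (Pi.mulSingle i c) ∈ (sg : (I → Perm A) →* (I → ℤˣ)).ker :=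
      funext fun m => mem_alternatingGroup.1 ((Pi.mulSingle i c : I → alternatingGroup A) m).2
    rw [← e] at h1
    obtain ⟨d, hd⟩ := h1
    have h2 : d = (Pi.mulSingle i c : I → alternatingGroup A) i := Subtype.ext (congrFun hd i)
    have h3 : d = (Pi.mulSingle i c : I → alternatingGroup A) j := Subtype.ext (congrFun hd j)
    rw [Pi.mulSingle_eq_same] at h2
    rw [Pi.mulSingle_eq_of_ne hj] at h3
    exact hc (h2.symm.trans h3)
  · obtain ⟨v, hv, hv'⟩ := SetLike.exists_of_lt h1
    obtain ⟨u, rfl⟩ := hι v (h2 hv)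
    obtain ⟨j, hj⟩ : ∃ j, u i ≠ u j := by
      by_contra h
      push Not at h
      exact hv' ⟨u i, funext fun m => congrArg Subtype.val (h m)⟩
    have h3 := diag_max hT hI (L := L.comap ι) (fun s w hw => hL s _ hw) (fun c => h1.le ⟨c, rfl⟩) hv hj
    obtain ⟨w, rfl⟩ := hι g hg
    exact (h3 ▸ mem_top w : w ∈ L.comap ι)

end wr

/-- **the wreath step** -/
theorem gWr : GWr := by
  intro l a hl h3 ha h6
  have : Nontrivial (Fin l) := Fin.nontrivial_iff_two_le.2 (by omega)
  have : Nontrivial (Fin a) := Fin.nontrivial_iff_two_le.2 (by omega)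
  have ha' : Even (Fintype.card (Fin a)) := by rwa [Fintype.card_fin]
  have h1 := S5909.result (Ω := Fin l × Fin a) (by
      rw [Fintype.card_prod, Fintype.card_fin, Fintype.card_fin]
      nlinarith) a l (by omega) (by omega) Prod.fst (fun i => by
      refine Eq.trans (Nat.card_congr ?_) (Nat.card_fin a)
      exact ⟨fun x => x.1.2, fun b => ⟨(i, b), rfl⟩, fun x => Subtype.ext (Prod.ext x.2.symm rfl), fun _ => rfl⟩)
  have h2 : closure {g : Perm (Fin l × Fin a) | ∀ x y : Fin l × Fin a, x.1 = y.1 ↔ (g x).1 = (g y).1} ⊓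
      alternatingGroup (Fin l × Fin a) = WW K1 inv_K1 := by
    apply le_antisymm
    · rintro x ⟨hx, hx'⟩
      have h4 : closure {g : Perm (Fin l × Fin a) | ∀ x y : Fin l × Fin a, x.1 = y.1 ↔ (g x).1 = (g y).1} ≤
          WW ⊤ (fun _ _ _ => mem_top _) := by
        rw [closure_le]
        intro y hy
        obtain ⟨s, g, e⟩ := exists_form hy
        exact ⟨s, g, mem_top _, e⟩
      obtain ⟨s, g, -, rfl⟩ := h4 hx
      have h5 := mem_alternatingGroup.1 hx'
      rw [map_mul, sign_wt ha', one_mul] at h5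
      exact ⟨s, g, h5, rfl⟩
    · rintro _ ⟨s, g, hg, rfl⟩
      refine ⟨subset_closure fun x y => s.injective.eq_iff.symm, mem_alternatingGroup.2 ?_⟩
      rw [map_mul, sign_wt ha', one_mul]
      exact hg
  have h4 : WW K1 inv_K1 ≤ alternatingGroup (Fin l × Fin a) := h2 ▸ inf_le_right
  rw [h2] at h1
  let f : Alt a × Perm (Fin l) →* Perm (Fin l × Fin a) :=
    { toFun := fun x => wt x.2 * wb (dg x.1)
      map_one' := rfl
      map_mul' := fun _ _ => rfl }
  have hf : Function.Injective f := by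
    rintro ⟨c, s⟩ ⟨c', s'⟩ e
    refine Prod.ext (Subtype.ext (Equiv.ext fun b => ?_)) (Equiv.ext fun i => ?_)
    · exact congrArg (fun y : Perm (Fin l × Fin a) => (y (⟨0, by omega⟩, b)).2) e
    · exact congrArg (fun y : Perm (Fin l × Fin a) => (y (i, ⟨0, by omega⟩)).1) e
  have hr : f.range = WW dg.range inv_K3 := by
    ext x
    constructor
    · rintro ⟨⟨c, s⟩, rfl⟩
      exact ⟨s, _, ⟨c, rfl⟩, rfl⟩
    · rintro ⟨s, _, ⟨c, rfl⟩, rfl⟩
      exact ⟨(c, s), rfl⟩
  exact (((Red.of_coatom h1 (subgroupOfEquivOfLe h4)).trans (Red.of_covBy (step2 (by rwa [Fintype.card_fin])))).trans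
    (Red.of_covBy (step3 (by rwa [Fintype.card_fin]) (by rw [Fintype.card_fin]; omega)))).congr
    finProdFinEquiv.altCongrHom ((MonoidHom.ofInjective hf).trans (MulEquiv.subgroupCongr hr)).symm

end Cfsg.Agent.Depth.G
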