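import Cfsg.Agent.Depth.G.Split

/-!
# Depth of alternating groups (S5768): the diagonal of `A₅ × A₅` and the chain of `A₅` (helper30)
-/

set_option autoImplicit false
set_option maxHeartbeats 200000

namespace Cfsg.Agent.Depth.G

open Subgroup

/-- the length of a chain is at most the number of prime factors of the order -/
theorem red_factors (k : ℕ) : ∀ (A : Type) [Group A] [Finite A], ArithmeticFunction.cardFactors (Nat.card A) ≤ k →
    Red A PUnit k := by
  induction k with
  | zero =>
    intro A _ _ h
    refine Red.of_card_lt 0 A ?_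
    by_contra h1
    have h2 := ArithmeticFunction.cardFactors_pos_iff_one_lt.2 (show 1 < Nat.card A by omega)
    omega
  | succ k ih =>
    intro A _ _ h
    rcases eq_top_or_exists_le_coatom (⊥ : Subgroup A) with h1 | ⟨M, hM, -⟩
    · refine (Red.of_card_lt 0 A ?_).mono (Nat.zero_le _)
      rw [← card_top, ← h1, card_bot]
      norm_num
    · have h2 := M.card_mul_index
      have h3 : 1 < M.index := one_lt_index_of_ne_top hM.1
      have h5 := ArithmeticFunction.cardFactors_pos_iff_one_lt.2 h3
      rw [← h2, ArithmeticFunction.cardFactors_mul Nat.card_pos.ne' (by omega)] at h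
      have h4 := (Red.of_coatom hM (MulEquiv.refl M)).trans (ih M (by omega))
      rwa [add_comm] at h4

/-- the diagonal of `T × T` is maximal -/
theorem red_diag (T : Type) [Group T] [IsSimpleGroup T] : Red (T × T) T 1 := by
  refine Red.of_range ((MonoidHom.id T).prod (MonoidHom.id T)) (fun x y e => congrArg Prod.fst e) ⟨fun e => ?_, ?_⟩
  · obtain ⟨x, hx⟩ := exists_ne (1 : T)
    obtain ⟨y, hy⟩ : (x, 1) ∈ ((MonoidHom.id T).prod (MonoidHom.id T)).range := e ▸ mem_top _
    exact hx ((congrArg Prod.fst hy).symm.trans (congrArg Prod.snd hy))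
  · intro X hX
    have hd : ∀ x : T, (x, x) ∈ X := fun x => hX.le ⟨x, rfl⟩
    have hn : (X.comap (MonoidHom.inl T T)).Normal := ⟨fun n hn g => by
      have h1 := X.mul_mem (X.mul_mem (hd g) hn) (X.inv_mem (hd g))
      rw [mem_comap]
      convert h1 using 1
      simp⟩
    rcases hn.eq_bot_or_eq_top with h | h
    · exfalso
      refine hX.not_ge ?_
      rintro ⟨a, b⟩ hab
      have h1 : a * b⁻¹ ∈ X.comap (MonoidHom.inl T T) := by
        have h2 := X.mul_mem hab (X.inv_mem (hd b))
        rw [mem_comap]
        convert h2 using 1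
        simp
      rw [h, mem_bot, mul_inv_eq_one] at h1
      exact ⟨a, by rw [h1]; rfl⟩
    · rw [eq_top_iff]
      rintro ⟨a, b⟩ -
      have h1 : a * b⁻¹ ∈ X.comap (MonoidHom.inl T T) := h ▸ mem_top _
      have h2 := X.mul_mem h1 (hd b)
      convert h2 using 1
      simp

/-- **`A₅ × A₅ > A₅`, `A₅ > A₄ > A₃ > 1`** -/
theorem gFive : GFive := by
  have : IsSimpleGroup (Alt 5) := alternatingGroup.isSimpleGroup (by simp)
  refine ⟨red_diag _, ((red_point (n := 4) (by norm_num)).trans (red_point (n := 3) (by norm_num))).trans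
    (red_factors 1 _ ?_)⟩
  rw [nat_card_alternatingGroup, Nat.card_fin]
  exact (ArithmeticFunction.cardFactors_apply_prime Nat.prime_three).le

end Cfsg.Agent.Depth.G
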