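import Cfsg.Agent.Depth.G.Fin
import Cfsg.Agent.Depth.F.Main

/-!
# Depth of alternating groups (S5768): the assembly, generic in the bound (helper30)
-/

set_option autoImplicit false
set_option maxHeartbeats 200000

namespace Cfsg.Agent.Depth.G

open Subgroup

/-- `Big` from the bound `X` on -/
def BigX (X : ℕ) : Prop :=
  ∀ N : ℕ, X ≤ N → Even N → ∃ l p₂ p₃ p₄ : ℕ, Safe l ∧ Good p₂ ∧ Good p₃ ∧ Good p₄ ∧
    3 * (l * (p₂ + 1)) < N ∧ N = l * (p₂ + 1) + (p₃ + 1) + (p₄ + 1)

/-- `Small` up to the bound `X + 1` -/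
def SmallX (X : ℕ) : Prop :=
  ∀ n : ℕ, 20 ≤ n → n ≤ X + 1 → ∃ (ps : List ℕ) (r : ℕ), ps ≠ [] ∧ ps.Nodup ∧ (∀ p ∈ ps, Good p) ∧
    5 * ps.length + r ≤ 23 ∧ n = (ps.map (· + 1)).sum + r

theorem BigX.mono {X Y : ℕ} (h : BigX X) (hXY : X ≤ Y) : BigX Y := fun N hN he => h N (hXY.trans hN) he

theorem red_bigX {X : ℕ} (hB : BigX X) {N : ℕ} (hN : X ≤ N) (he : Even N) : Red (Alt N) PUnit 22 := by
  have hS := gSplit
  have hL := gLeaf
  have h5 := gFive
  obtain ⟨l, p₂, p₃, p₄, hl, g₂, g₃, g₄, h1, rfl⟩ := hB N hN he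
  have k₂ := g₂.2.1
  have k₃ := g₃.2.1
  have k₄ := g₄.2.1
  have kl := hl.2.2
  have hx : Red (Alt (l * (p₂ + 1))) (Alt 5) 9 :=
    ((gWr l (p₂ + 1) (hl.1.odd_of_ne_two (by omega)) (by omega) (g₂.1.odd_of_ne_two (by omega)).add_one (by omega)).trans
      (((gAff l hl).prod_right).congr (MulEquiv.refl _) MulEquiv.prodUnique)).trans (hL p₂ g₂)
  have h2 : 5 ≤ l * (p₂ + 1) := by nlinarith
  generalize l * (p₂ + 1) = x at *
  by_cases h : p₃ = p₄
  · have h3 := red_join hS h5 (by omega) (by omega) (by omega)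
      (red_join hS h5 h2 (by omega) (by omega) hx (hL p₃ g₃)) (hL p₄ g₄)
    exact h3.trans h5.2
  · have h3 := red_join hS h5 h2 (by omega) (by omega) hx
      (red_join hS h5 (by omega) (by omega) (by omega) (hL p₃ g₃) (hL p₄ g₄))
    rw [add_assoc]
    exact h3.trans h5.2

/-- **S5768 from the two arithmetic boxes, for any bound** -/
theorem goal_ofX (X : ℕ) (hB : BigX X) (hs : SmallX X) : Goal := by
  intro n
  have hP := gPoint
  have h5 := gFive
  have key : Red (Alt n) PUnit 23 := by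
    rcases Nat.lt_or_ge n 5 with h1 | h1
    · refine Red.of_card_lt 23 _ ((card_le_card_group _).trans_lt ?_)
      rw [Nat.card_perm, Nat.card_fin]
      exact (Nat.factorial_le h1.le).trans_lt (by norm_num [Nat.factorial])
    rcases Nat.lt_or_ge n 20 with h2 | h2
    · obtain ⟨r, rfl⟩ := Nat.exists_eq_add_of_le h1
      exact ((red_pts hP le_rfl r).trans h5.2).mono (by omega)
    rcases le_or_gt n (X + 1) with h3 | h3
    · obtain ⟨ps, r, k1, k2, k3, k4, rfl⟩ := hs n h2 h3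
      obtain ⟨q, hq⟩ := List.exists_mem_of_ne_nil ps k1
      have h4 := red_sum gSplit gLeaf h5 ps.toFinset ⟨q, List.mem_toFinset.2 hq⟩
        (fun p hp => k3 p (List.mem_toFinset.1 hp))
      rw [List.sum_toFinset _ k2, List.toFinset_card_of_nodup k2] at h4
      have h6 : 0 < ps.length := List.length_pos_of_mem hq
      have h7 : q + 1 ≤ (ps.map (· + 1)).sum := List.single_le_sum (fun _ _ => Nat.zero_le _) _ (List.mem_map_of_mem hq)
      have h8 := (k3 q hq).2.1
      exact (((red_pts hP (by omega) r).trans h4).trans h5.2).mono (by omega)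
    rcases Nat.even_or_odd n with h4 | h4
    · exact (red_bigX hB (by omega) h4).mono (by norm_num)
    · obtain ⟨k, rfl⟩ := h4
      exact (hP (2 * k) (by omega)).trans (red_bigX hB (by omega) (even_two_mul k))
  obtain ⟨t, c, k1, k2, ⟨e⟩, k4⟩ := key
  have : Subsingleton (c (Fin.last t)) := e.toEquiv.subsingleton
  exact ⟨t, c, k1, k2, eq_bot_of_subsingleton _, k4⟩

/-- **S5768 from the analytic theorem for `N ≥ 10^24`** -/
theorem goal24 (hB : BigX (10 ^ 24)) : Goal := goal_ofX _ hB Cfsg.Agent.Depth.F.small24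

end Cfsg.Agent.Depth.G
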