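import Cfsg.Agent.Depth.G.Calc

/-!
# Depth of alternating groups (S5768): the intransitive steps (helper30)
-/

set_option autoImplicit false
set_option maxHeartbeats 200000

namespace Cfsg.Agent.Depth.G

open Subgroup Equiv Equiv.Perm
open scoped Pointwise

/-- `(S_a × S_b) ∩ A` -/
def PP (a b : ℕ) : Subgroup (Perm (Fin a) × Perm (Fin b)) :=
  (alternatingGroup (Fin a ⊕ Fin b)).comap (sumCongrHom (Fin a) (Fin b))

theorem mem_PP {a b : ℕ} {x : Perm (Fin a) × Perm (Fin b)} : x ∈ PP a b ↔ sign x.1 * sign x.2 = 1 := by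
  rw [PP, mem_comap, mem_alternatingGroup, ← sign_sumCongr]
  rfl

theorem red_PP {a b : ℕ} (ha : 0 < a) (hb : 0 < b) (hab : a ≠ b) : Red (Alt (a + b)) (PP a b) 1 := by
  let ψ : PP a b →* alternatingGroup (Fin a ⊕ Fin b) :=
    ((sumCongrHom (Fin a) (Fin b)).comp (PP a b).subtype).codRestrict _ (fun x => x.2)
  have hψ : Function.Injective ψ := fun x y e => Subtype.ext (sumCongrHom_injective (congrArg Subtype.val e))
  have hr : ψ.range = MulAction.stabilizer (alternatingGroup (Fin a ⊕ Fin b))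
      (Set.range (Sum.inl : Fin a → Fin a ⊕ Fin b)) := by
    ext g
    rw [MulAction.mem_stabilizer_iff]
    constructor
    · rintro ⟨x, rfl⟩
      ext y
      rw [Set.mem_smul_set]
      constructor
      · rintro ⟨_, ⟨i, rfl⟩, rfl⟩
        exact ⟨x.1.1 i, rfl⟩
      · rintro ⟨i, rfl⟩
        refine ⟨_, ⟨x.1.1⁻¹ i, rfl⟩, ?_⟩
        change Sum.inl (x.1.1 (x.1.1.symm i)) = _
        rw [Equiv.apply_symm_apply]
    · intro h
      obtain ⟨x, hx⟩ := mem_sumCongrHom_range_of_perm_mapsTo_inl (σ := g.1) (fun y hy => by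
        rw [← h]
        exact ⟨y, hy, rfl⟩)
      exact ⟨⟨x, by rw [PP, mem_comap, hx]; exact g.2⟩, Subtype.ext hx⟩
  have hc : IsCoatom ψ.range := by
    rw [hr]
    refine alternatingGroup.isCoatom_stabilizer ⟨_, ⟨0, ha⟩, rfl⟩ ⟨Sum.inr ⟨0, hb⟩, by simp⟩ ?_
    rw [Set.ncard_range_of_injective Sum.inl_injective, Nat.card_sum, Nat.card_fin, Nat.card_fin]
    omega
  exact (Red.of_range ψ hψ hc).congr finSumFinEquiv.altCongrHom (MulEquiv.refl _)

theorem red_point {n : ℕ} (hn : 2 ≤ n) : Red (Alt (n + 1)) (Alt n) 1 := by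
  let f : Alt n →* PP n 1 := ((MonoidHom.inl _ _).comp (alternatingGroup (Fin n)).subtype).codRestrict _ (fun x => by
    rw [mem_PP]
    change sign x.1 * sign 1 = 1
    rw [mem_alternatingGroup.1 x.2, map_one, mul_one])
  have hf : Function.Bijective f := by
    refine ⟨fun x y e => Subtype.ext (congrArg (fun z => z.1.1) e), fun y => ?_⟩
    have h1 : y.1.2 = 1 := Subsingleton.elim _ _
    have h2 := mem_PP.1 y.2
    rw [h1, map_one, mul_one] at h2
    exact ⟨⟨y.1.1, mem_alternatingGroup.2 h2⟩, Subtype.ext (Prod.ext rfl h1.symm)⟩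
  exact (red_PP (a := n) (b := 1) (by omega) one_pos (by omega)).congr (MulEquiv.refl _) (MulEquiv.ofBijective f hf).symm

/-- **point stabiliser** -/
theorem gPoint : GPoint := fun _ hn => red_point (by omega)

/-- **`A_{a+b} > (S_a × S_b) ∩ A > A_a × A_b`** -/
theorem gSplit : GSplit := by
  intro a b ha hb hab
  let f : Alt a × Alt b →* PP a b :=
    ((alternatingGroup (Fin a)).subtype.prodMap (alternatingGroup (Fin b)).subtype).codRestrict _ (fun x => by
      rw [mem_PP]
      change sign x.1.1 * sign x.2.1 = 1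
      rw [mem_alternatingGroup.1 x.1.2, mem_alternatingGroup.1 x.2.2, mul_one])
  have hf : Function.Injective f := fun x y e =>
    Prod.ext (Subtype.ext (congrArg (fun z => z.1.1) e)) (Subtype.ext (congrArg (fun z => z.1.2) e))
  let s : PP a b →* ℤˣ := sign.comp ((MonoidHom.fst _ _).comp (PP a b).subtype)
  have hr : f.range = s.ker := by
    ext y
    constructor
    · rintro ⟨x, rfl⟩
      exact mem_alternatingGroup.1 x.1.2
    · intro h
      have h1 : sign y.1.1 = 1 := h
      have h2 := mem_PP.1 y.2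
      rw [h1, one_mul] at h2
      exact ⟨(⟨y.1.1, mem_alternatingGroup.2 h1⟩, ⟨y.1.2, mem_alternatingGroup.2 h2⟩), rfl⟩
  have hs : Function.Surjective s := by
    intro u
    rcases Int.units_eq_one_or u with rfl | rfl
    · exact ⟨1, map_one s⟩
    · have h1 : sign (swap (⟨0, by omega⟩ : Fin a) ⟨1, by omega⟩) = -1 := sign_swap (by simp)
      have h2 : sign (swap (⟨0, by omega⟩ : Fin b) ⟨1, by omega⟩) = -1 := sign_swap (by simp)
      exact ⟨⟨(swap ⟨0, by omega⟩ ⟨1, by omega⟩, swap ⟨0, by omega⟩ ⟨1, by omega⟩), mem_PP.2 (by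
        rw [h1, h2]; simp)⟩, h1⟩
  have hi : f.range.index = 2 := by
    rw [hr, index_ker, MonoidHom.range_eq_top.2 hs, card_top, Nat.card_eq_fintype_card, Fintype.card_units_int]
  exact (red_PP (by omega) (by omega) hab).trans
    (Red.of_range f hf (isCoatom_of_index_prime (by rw [hi]; exact Nat.prime_two)))

end Cfsg.Agent.Depth.G
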